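import Groth.Agent.WeakEt.Basic
import Groth.Agent.Hensel.IndEtale
import Groth.Agent.S0736
import Groth.Agent.WContr.WEtResidue
import Groth.Prelude.Def_EtAlgD
import Mathlib

/-!
Weakly étale algebras over a field are those all of whose elements are roots of separable polynomials.
-/

set_option autoImplicit false
set_option backward.isDefEq.respectTransparency false
set_option backward.isDefEq.respectTransparency.types false
set_option linter.style.haveILetI false
set_option synthInstance.maxHeartbeats 200000

universe u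

open Polynomial

namespace Groth.Agent.WEtField

variable {K : Type u} [Field K] {B : Type u} [CommRing B] [Algebra K B]

variable (K) in
/-- a root of some separable polynomial -/
def IsSepElem (b : B) : Prop := ∃ f : K[X], f.Separable ∧ aeval b f = 0

theorem IsSepElem.map {b : B} (h : IsSepElem K b) {C : Type u} [CommRing C] [Algebra K C] (φ : B →ₐ[K] C) :
    IsSepElem K (φ b) := by
  obtain ⟨f, hf, hb⟩ := h
  exact ⟨f, hf, by rw [aeval_algHom_apply, hb, map_zero]⟩

theorem isSepElem_of_injective {b : B} {C : Type u} [CommRing C] [Algebra K C] (φ : B →ₐ[K] C)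
    (hφ : Function.Injective φ) (h : IsSepElem K (φ b)) : IsSepElem K b := by
  obtain ⟨f, hf, hb⟩ := h
  exact ⟨f, hf, hφ (by rwa [← aeval_algHom_apply, map_zero])⟩

theorem formallyUnramified_adjoin {s : Set B} (hs : ∀ b ∈ s, IsSepElem K b) :
    Algebra.FormallyUnramified K (Algebra.adjoin K s) := by
  set S := Algebra.adjoin K s with hS
  have hD : ∀ x : S, KaehlerDifferential.D K S x = 0 := by
    let t : Set S := (↑) ⁻¹' s
    have ht : Algebra.adjoin K t = ⊤ := by
      exact Algebra.adjoin_adjoin_coe_preimage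
    intro x
    have : Set.EqOn (KaehlerDifferential.D K S) (0 : Derivation K S (Ω[S⁄K])) (Algebra.adjoin K t) :=
      Derivation.eqOn_adjoin fun y hy => by
        obtain ⟨f, hf, hy0⟩ := hs _ hy
        have hy1 : aeval y f = 0 := by
          apply Subtype.ext
          rw [Subalgebra.aeval_coe] at hy0
          simpa using hy0
        obtain ⟨a, b, hab⟩ := hf
        have hu : IsUnit (aeval y (derivative f)) := IsUnit.of_mul_eq_one_right (aeval y b) (by
          simpa [hy1] using congrArg (aeval y) hab)
        have h0 : aeval y (derivative f) • KaehlerDifferential.D K S y = 0 := by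
          rw [← Derivation.map_aeval, hy1, map_zero]
        simpa using hu.smul_eq_zero.mp h0
    simpa using this (ht.ge (Algebra.mem_top (x := x)))
  refine ⟨?_⟩
  refine ⟨fun a b => ?_⟩
  have h : (⊤ : Submodule S (Ω[S⁄K])) = ⊥ := by
    rw [← KaehlerDifferential.span_range_derivation, Submodule.span_eq_bot]
    rintro _ ⟨x, rfl⟩
    exact hD x
  have ha := h.le (Submodule.mem_top (x := a))
  have hb := h.le (Submodule.mem_top (x := b))
  rw [Submodule.mem_bot] at ha hb
  rw [ha, hb]

theorem etale_adjoin {s : Set B} (hfin : s.Finite) (hs : ∀ b ∈ s, IsSepElem K b) :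
    Algebra.Etale K (Algebra.adjoin K s) := by
  haveI := formallyUnramified_adjoin hs
  haveI : Algebra.FiniteType K (Algebra.adjoin K s) :=
    (Subalgebra.fg_iff_finiteType _).mp ⟨hfin.toFinset, by simp⟩
  haveI := Algebra.FormallyEtale.of_formallyUnramified_of_field K (Algebra.adjoin K s)
  exact ⟨inferInstance, Algebra.FinitePresentation.of_finiteType.mp inferInstance⟩

/-- a directed union of étale subalgebras is ind-étale -/
theorem isIndEtale_of_directed_subalgebra {A : Type u} [CommRing A] {C : Type u} [CommRing C] [Algebra A C]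
    {J : Type u} [Preorder J] [IsDirectedOrder J] [Nonempty J] (E : J → Subalgebra A C) (hmono : Monotone E)
    (hE : ∀ j, Algebra.Etale A (E j)) (hcov : ∀ x, ∃ j, x ∈ E j) : EtPBC.IsIndEtale A C :=
  Groth.Agent.Hensel.isIndEtale_of_directed (fun j => ↥(E j)) hE
    (fun i j h => Subalgebra.inclusion (hmono h))
    (fun _ _ => rfl) (fun _ _ _ _ _ _ => rfl) (fun j => (E j).val) (fun _ _ _ _ => rfl)
    (fun x => ⟨(hcov x).choose, ⟨x, (hcov x).choose_spec⟩, rfl⟩)
    (fun j x hx => ⟨j, le_rfl, Subtype.ext hx⟩)

/-- all elements separable ⇒ ind-étale -/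
theorem isIndEtale_of_forall (h : ∀ b : B, IsSepElem K b) : EtPBC.IsIndEtale K B := by
  classical
  refine isIndEtale_of_directed_subalgebra (J := Finset B) (fun s => Algebra.adjoin K (s : Set B))
    (fun s t hst => Algebra.adjoin_mono (Finset.coe_subset.mpr hst))
    (fun s => etale_adjoin s.finite_toSet fun b _ => h b)
    (fun b => ⟨{b}, Algebra.subset_adjoin (by simp)⟩)

theorem weaklyEtale_of_forall (h : ∀ b : B, IsSepElem K b) : Algebra.WeaklyEtale K B :=
  Groth.Agent.S0736.result K B (isIndEtale_of_forall h)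

theorem separable_of_squarefree {f : K[X]} (hf0 : f ≠ 0) (hsq : Squarefree f)
    (h : ∀ g : K[X], Irreducible g → g ∣ f → g.Separable) : f.Separable := by
  refine isCoprime_of_prime_dvd (fun hh => hf0 hh.1) fun g hg hgf hgd => ?_
  obtain ⟨k, rfl⟩ := hgf
  have hgs := h g hg.irreducible (dvd_mul_right g k)
  have h2 : g ∣ derivative g * k := by
    rw [derivative_mul] at hgd
    exact (dvd_add_left (dvd_mul_right g _)).mp hgd
  exact hg.not_isUnit (hsq g (mul_dvd_mul_left g ((hgs : IsCoprime g (derivative g)).dvd_of_dvd_mul_left h2)))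

theorem isSepElem_of_weaklyEtale [Algebra.WeaklyEtale K B] (b : B) : IsSepElem K b := by
  rcases subsingleton_or_nontrivial B with hB | hB
  · exact ⟨1, separable_one, Subsingleton.elim _ _⟩
  haveI : IsReduced B := Groth.Agent.WeakEt.isReduced_of_weaklyEtale K B
  have hres : ∀ (q : Ideal B) [q.IsPrime], Algebra.IsSeparable K q.ResidueField := fun q _ => by
    haveI := Groth.Agent.WContr.isSeparable_of_weaklyEtale_gen K B K q.ResidueField (fun x => by
      obtain ⟨y, rfl⟩ := IsLocalRing.residue_surjective x
      obtain ⟨c, d, rfl⟩ := IsLocalization.exists_mk'_eq q.primeCompl y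
      refine ⟨c, d, ?_, ?_⟩
      · rw [ne_eq, Ideal.algebraMap_residueField_eq_zero]
        exact d.2
      · rw [IsScalarTower.algebraMap_apply B (Localization.AtPrime q) q.ResidueField,
          IsScalarTower.algebraMap_apply B (Localization.AtPrime q) q.ResidueField]
        change IsLocalRing.residue _ _ * IsLocalRing.residue _ _ = IsLocalRing.residue _ _
        rw [← map_mul, IsLocalization.mk'_spec])
    infer_instance
  have hint : IsIntegral K b := by
    rw [← isAlgebraic_iff_isIntegral]
    by_contra htr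
    let M : Submonoid B := (nonZeroDivisors K[X]).map (aeval b).toRingHom.toMonoidHom
    have h0 : (0 : B) ∉ M := by
      rintro ⟨p, hp, hp0⟩
      exact htr ⟨p, nonZeroDivisors.ne_zero hp, hp0⟩
    obtain ⟨q, hq, -, hqd⟩ := Ideal.exists_le_prime_disjoint (⊥ : Ideal B) M
      (Set.disjoint_left.mpr fun x hx hx' => h0 (Submodule.mem_bot B |>.mp hx ▸ hx'))
    let ρ : B →ₐ[K] q.ResidueField := IsScalarTower.toAlgHom K B q.ResidueField
    haveI := hres q
    obtain ⟨p, hp, hp0⟩ := (Algebra.IsSeparable.isSeparable K (ρ b)).isIntegral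
    refine Set.disjoint_left.mp hqd (?_ : aeval b p ∈ q) ⟨p, mem_nonZeroDivisors_of_ne_zero hp.ne_zero, rfl⟩
    rw [← Ideal.algebraMap_residueField_eq_zero]
    change ρ (aeval b p) = 0
    rw [← aeval_algHom_apply]
    exact hp0
  refine ⟨minpoly K b, separable_of_squarefree (minpoly.ne_zero hint) ?_ ?_, minpoly.aeval K b⟩
  · rintro g ⟨k, hk⟩
    by_contra hgu
    have hg0 : g ≠ 0 := fun h => minpoly.ne_zero hint (by rw [hk, h, zero_mul, zero_mul])
    have hgk : aeval b (g * k) = 0 := IsReduced.eq_zero _ ⟨2, by
      rw [← map_pow, show (g * k) ^ 2 = minpoly K b * k by rw [hk]; ring, map_mul, minpoly.aeval, zero_mul]⟩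
    have h1 := minpoly.dvd K b hgk
    rw [hk, mul_assoc] at h1
    have hgk0 : g * k ≠ 0 := fun h => minpoly.ne_zero hint (by rw [hk, mul_assoc, h, mul_zero])
    exact hgu (isUnit_of_dvd_one ((mul_dvd_mul_iff_right hgk0).mp (by rwa [one_mul])))
  · intro g hg hgd
    obtain ⟨k, hk⟩ := hgd
    have hne : aeval b k ≠ 0 := fun h0 => by
      have hk0 : k ≠ 0 := fun h => minpoly.ne_zero hint (by rw [hk, h, mul_zero])
      have h1 := minpoly.dvd K b h0
      rw [hk] at h1
      exact hg.not_isUnit (isUnit_of_dvd_one ((mul_dvd_mul_iff_right hk0).mp (by rwa [one_mul])))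
    have hn : aeval b k ∉ nilradical B := by
      rw [nilradical_eq_zero]
      exact hne
    rw [nilradical_eq_sInf, Ideal.mem_sInf] at hn
    push Not at hn
    obtain ⟨q, hq, hkq⟩ := hn
    haveI : q.IsPrime := hq
    let ρ : B →ₐ[K] q.ResidueField := IsScalarTower.toAlgHom K B q.ResidueField
    have hgq : aeval (ρ b) g = 0 := by
      rw [aeval_algHom_apply]
      change algebraMap B q.ResidueField (aeval b g) = 0
      rw [Ideal.algebraMap_residueField_eq_zero]
      refine ((inferInstance : q.IsPrime).mem_or_mem ?_).resolve_right hkq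
      rw [← map_mul, ← hk, minpoly.aeval]
      exact q.zero_mem
    haveI := hres q
    exact (((minpoly.irreducible (Algebra.IsSeparable.isSeparable K (ρ b)).isIntegral).associated_of_dvd hg
      (minpoly.dvd K (ρ b) hgq)).separable (Algebra.IsSeparable.isSeparable K (ρ b)))

theorem weaklyEtale_iff : Algebra.WeaklyEtale K B ↔ ∀ b : B, IsSepElem K b :=
  ⟨fun _ b => isSepElem_of_weaklyEtale b, weaklyEtale_of_forall⟩

theorem isSepElem_of_etale {E : Type u} [CommRing E] [Algebra K E] [Algebra.Etale K E] (x : E) : IsSepElem K x :=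
  isSepElem_of_weaklyEtale x

variable (K B) in
/-- the subalgebra of roots of separable polynomials -/
def sepElems : Subalgebra K B where
  carrier := {b | IsSepElem K b}
  mul_mem' := fun {a b} ha hb => by
    haveI := etale_adjoin (B := B) (s := {a, b}) (Set.toFinite _) (by rintro c (rfl | rfl) <;> assumption)
    exact (isSepElem_of_etale (⟨a, Algebra.subset_adjoin (by simp)⟩ * ⟨b, Algebra.subset_adjoin (by simp)⟩ :
      Algebra.adjoin K {a, b})).map (Subalgebra.val _)
  add_mem' := fun {a b} ha hb => by
    haveI := etale_adjoin (B := B) (s := {a, b}) (Set.toFinite _) (by rintro c (rfl | rfl) <;> assumption)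
    exact (isSepElem_of_etale (⟨a, Algebra.subset_adjoin (by simp)⟩ + ⟨b, Algebra.subset_adjoin (by simp)⟩ :
      Algebra.adjoin K {a, b})).map (Subalgebra.val _)
  algebraMap_mem' := fun a => ⟨X - C a, separable_X_sub_C, by simp⟩

theorem isSepElem_subalgebra (S : Subalgebra K B) (x : S) : IsSepElem K x ↔ IsSepElem K (x : B) :=
  ⟨fun h => h.map S.val, fun h => isSepElem_of_injective S.val Subtype.val_injective h⟩

theorem mem_maxWeaklyEtale_iff (b : B) : b ∈ EtAlgD.maxWeaklyEtale K B ↔ IsSepElem K b := by
  have hle : EtAlgD.maxWeaklyEtale K B ≤ sepElems K B := sSup_le fun S hS x hx => by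
    haveI : Algebra.WeaklyEtale K S := hS
    exact (isSepElem_subalgebra S ⟨x, hx⟩).mp (isSepElem_of_weaklyEtale _)
  refine ⟨fun h => hle h, fun h => ?_⟩
  have hmem : sepElems K B ≤ EtAlgD.maxWeaklyEtale K B :=
    le_sSup (weaklyEtale_of_forall fun x => (isSepElem_subalgebra _ x).mpr x.2 : Algebra.WeaklyEtale K (sepElems K B))
  exact hmem h

end Groth.Agent.WEtField
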