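import Groth.Agent.WEtField.Basic
import Mathlib

/-!
Base change of the maximal weakly étale subalgebra along a field extension.
-/

set_option autoImplicit false
set_option linter.all false
set_option maxHeartbeats 2000000
set_option synthInstance.maxHeartbeats 200000

universe u

open Polynomial
open scoped TensorProduct

namespace Groth.Agent.WEtField

theorem isSepElem_idem {K : Type u} [Field K] {B : Type u} [CommRing B] [Algebra K B] {e : B}
    (he : e * e = e) : IsSepElem K e := by
  refine ⟨X * (X - C 1), separable_X.mul separable_X_sub_C ⟨1, -1, ?_⟩, ?_⟩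
  · rw [map_one]; ring
  · simp only [map_mul, map_sub, aeval_X, aeval_C, map_one, mul_sub, mul_one, he, sub_self]

theorem idem_eq_one_tmul {k : Type u} [Field k] [IsAlgClosed k] {Ω : Type u} [Field Ω] [Algebra k Ω]
    {B : Type u} [CommRing B] [Algebra k B] {e : Ω ⊗[k] B} (he : e * e = e) : ∃ b : B, e = 1 ⊗ₜ b := by
  classical
  obtain ⟨S, hS⟩ := TensorProduct.exists_finset e
  set R := Algebra.adjoin k (↑(S.image Prod.fst) : Set Ω) with hR
  set B₀ := Algebra.adjoin k (↑(S.image Prod.snd) : Set B) with hB₀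
  haveI : Algebra.FiniteType k R := (Subalgebra.fg_iff_finiteType _).mp ⟨_, rfl⟩
  haveI : Algebra.FiniteType k B₀ := (Subalgebra.fg_iff_finiteType _).mp ⟨_, rfl⟩
  let ι : R ⊗[k] B₀ →ₐ[k] Ω ⊗[k] B := Algebra.TensorProduct.map R.val B₀.val
  have hι : Function.Injective ι :=
    TensorProduct.map_injective_of_flat_flat R.val.toLinearMap B₀.val.toLinearMap
      Subtype.val_injective Subtype.val_injective
  obtain ⟨e₀, rfl⟩ : ∃ e₀, ι e₀ = e := by
    refine ⟨∑ p : S, (⟨p.1.1, Algebra.subset_adjoin (by simpa using ⟨p.1.2, p.2⟩)⟩ : R) ⊗ₜ[k]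
      (⟨p.1.2, Algebra.subset_adjoin (by simpa using ⟨p.1.1, p.2⟩)⟩ : B₀), ?_⟩
    rw [hS, map_sum, ← Finset.sum_coe_sort S]
    rfl
  have he₀ : IsIdempotentElem e₀ := hι (by rw [map_mul, he])
  have hpt : ∀ (C : Type u) [CommRing C] [Algebra k C] [Algebra.FiniteType k C] (m : Ideal C) [m.IsMaximal],
      ∃ φ : C →ₐ[k] k, ∀ x, φ x = 0 → x ∈ m := by
    intro C _ _ _ m _
    letI := Ideal.Quotient.field m
    haveI : Module.Finite k (C ⧸ m) := finite_of_finite_type_of_isJacobsonRing k (C ⧸ m)
    let eq := AlgEquiv.ofBijective (Algebra.ofId k (C ⧸ m))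
      (IsAlgClosed.algebraMap_bijective_of_isIntegral (K := C ⧸ m) (k := k))
    refine ⟨eq.symm.toAlgHom.comp (Ideal.Quotient.mkₐ k m), fun x hx => ?_⟩
    rw [← Ideal.Quotient.eq_zero_iff_mem]
    have h := congrArg eq hx
    simpa using h
  obtain ⟨m₀, hm₀⟩ := Ideal.exists_maximal R
  obtain ⟨φ, -⟩ := hpt R m₀
  let pφ : R ⊗[k] B₀ →ₐ[k] B₀ :=
    Algebra.TensorProduct.lift ((Algebra.ofId k B₀).comp φ) (AlgHom.id k B₀) fun _ _ => Commute.all _ _
  set a := pφ e₀ with ha
  have hidem : IsIdempotentElem ((1 : R) ⊗ₜ[k] a) := by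
    show _ * _ = _
    rw [Algebra.TensorProduct.tmul_mul_tmul, one_mul, ha, ← map_mul, he₀.eq]
  let β := Module.Free.chooseBasis k R
  obtain ⟨d, hd⟩ := TensorProduct.eq_repr_basis_left β (e₀ - 1 ⊗ₜ a)
  have hnil : IsNilpotent (e₀ - 1 ⊗ₜ[k] a) := by
    rw [← hd, Finsupp.sum]
    refine isNilpotent_sum fun j _ => ?_
    suffices IsNilpotent (d j) by
      rw [show β j ⊗ₜ[k] d j = (β j ⊗ₜ[k] (1 : B₀)) * ((1 : R) ⊗ₜ[k] d j) by simp]
      exact (Commute.all _ _).isNilpotent_mul_left
        (this.map (Algebra.TensorProduct.includeRight : B₀ →ₐ[k] R ⊗[k] B₀))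
    haveI : IsJacobsonRing B₀ := isJacobsonRing_of_finiteType (A := k)
    rw [← mem_nilradical, nilradical, Ideal.zero_eq_bot,
      ← IsJacobsonRing.out' (⊥ : Ideal B₀).radical (Ideal.radical_isRadical _), Ideal.jacobson, Ideal.mem_sInf]
    rintro x ⟨-, hx⟩
    haveI := hx
    obtain ⟨ψ, hψ⟩ := hpt B₀ x
    refine hψ _ ?_
    let pψ : R ⊗[k] B₀ →ₐ[k] R :=
      Algebra.TensorProduct.lift (AlgHom.id k R) ((Algebra.ofId k R).comp ψ) fun _ _ => Commute.all _ _
    have hcomm : ∀ z, φ (pψ z) = ψ (pφ z) := fun z =>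
      DFunLike.congr_fun (show φ.comp pψ = ψ.comp pφ from
        Algebra.TensorProduct.ext (by ext y; simp [pψ, pφ]) (by ext y; simp [pψ, pφ])) z
    have h1 : pψ e₀ = algebraMap k R (φ (pψ e₀)) := by
      rcases IsIdempotentElem.iff_eq_zero_or_one.1 (he₀.map pψ) with h | h <;> rw [h] <;> simp
    have h0 : pψ (e₀ - 1 ⊗ₜ a) = 0 := by
      rw [map_sub, h1, hcomm, ← ha]; simp [pψ]
    rw [← hd, map_finsuppSum] at h0
    have h2 : Finsupp.linearCombination k β (Finsupp.mapRange ψ (map_zero ψ) d) = 0 := by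
      rw [Finsupp.linearCombination_apply, Finsupp.sum_mapRange_index (by simp), ← h0]
      refine Finsupp.sum_congr fun i _ => ?_
      simp [pψ, Algebra.smul_def, mul_comm]
    have h3 := linearIndependent_iff.1 β.linearIndependent _ h2
    simpa using DFunLike.congr_fun h3 j
  have heq : e₀ = 1 ⊗ₜ a := eq_of_isNilpotent_sub_of_isIdempotentElem he₀ hidem hnil
  exact ⟨(a : B), by rw [heq]; simp [ι]⟩

theorem idem_mem_span {K : Type u} [Field K] {k : Type u} [Field k] [Algebra K k] [IsAlgClosed k]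
    [Algebra.IsAlgebraic K k] {A : Type u} [CommRing A] [Algebra K A] {e : k ⊗[K] A} (he : e * e = e) :
    e ∈ Submodule.span k ((fun a : A => (1 : k) ⊗ₜ[K] a) '' {a | IsSepElem K a}) := by
  classical
  rcases subsingleton_or_nontrivial (k ⊗[K] A) with hs | hs
  · rw [Subsingleton.elim e 0]; exact zero_mem _
  obtain ⟨S, hS⟩ := TensorProduct.exists_finset e
  set q := ringExpChar K with hq
  haveI : ExpChar K q := inferInstanceAs (ExpChar K (ringExpChar K))
  haveI : ExpChar (k ⊗[K] A) q := expChar_of_injective_algebraMap (algebraMap K (k ⊗[K] A)).injective q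
  haveI : IsPurelyInseparable (separableClosure K k) k := separableClosure.isPurelyInseparable K k
  haveI : ExpChar (separableClosure K k) q := expChar_of_injective_algebraMap (algebraMap K _).injective q
  choose n hn using fun p : S => IsPurelyInseparable.pow_mem (separableClosure K k) q (p.1.1 : k)
  let N := Finset.univ.sup n
  have hN : ∀ p : S, p.1.1 ^ q ^ N ∈ separableClosure K k := fun p => by
    obtain ⟨y, hy⟩ := hn p
    show p.1.1 ^ q ^ Finset.univ.sup n ∈ _
    rw [← Nat.add_sub_of_le (Finset.le_sup (f := n) (Finset.mem_univ p)), pow_add, pow_mul, ← hy]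
    exact pow_mem y.2 _
  set E := IntermediateField.adjoin K (Set.range fun p : S => p.1.1 ^ q ^ N) with hE
  haveI : FiniteDimensional K E := IntermediateField.finiteDimensional_adjoin fun x _ =>
    Algebra.IsIntegral.isIntegral x
  haveI : Algebra.IsSeparable K E := (IntermediateField.isSeparable_adjoin_iff_isSeparable K k).2 fun x hx => by
    obtain ⟨p, rfl⟩ := hx
    exact mem_separableClosure_iff.1 (hN p)
  let ι : E ⊗[K] A →ₐ[K] k ⊗[K] A := Algebra.TensorProduct.map E.val (AlgHom.id K A)
  have hι : Function.Injective ι :=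
    Module.Flat.rTensor_preserves_injective_linearMap (M := A) E.val.toLinearMap E.val.injective
  obtain ⟨e₁, rfl⟩ : ∃ e₁, ι e₁ = e := by
    refine ⟨∑ p : S, (⟨_, IntermediateField.subset_adjoin K _ ⟨p, rfl⟩⟩ : E) ⊗ₜ[K] (p.1.2 ^ q ^ N), ?_⟩
    have h1 : e = e ^ q ^ N := (IsIdempotentElem.pow_eq (show IsIdempotentElem e from he)
      (pow_ne_zero N (expChar_pos K q).ne')).symm
    rw [h1, hS, ← Finset.sum_coe_sort S, sum_pow_char_pow, map_sum]
    refine Finset.sum_congr rfl fun p _ => ?_
    rw [Algebra.TensorProduct.tmul_pow]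
    rfl
  have he₁ : e₁ * e₁ = e₁ := hι (by rw [map_mul, he])
  let β := Module.finBasis K E
  let β' := LinearMap.BilinForm.dualBasis (Algebra.traceForm K E) (traceForm_nondegenerate K E) β
  let T : Fin (Module.finrank K E) → (E ⊗[K] A →ₗ[K] A) := fun j =>
    (TensorProduct.lid K A).toLinearMap ∘ₗ LinearMap.rTensor A
      ((Algebra.trace K E) ∘ₗ LinearMap.mulLeft K (β' j))
  have hT : ∀ z, ι z = ∑ j, (β j : k) ⊗ₜ[K] T j z := fun z => by
    induction z using TensorProduct.induction_on with
    | zero => simp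
    | add x y hx hy => simp only [map_add, TensorProduct.tmul_add, Finset.sum_add_distrib, hx, hy]
    | tmul x a =>
      have hx : ∀ j, Algebra.trace K E (β' j * x) = β.repr x j := fun j => by
        have h : Algebra.trace K E (β' j * x) = Algebra.traceForm K E (β' j) (∑ i, β.repr x i • β i) := by
          rw [β.sum_repr]; rfl
        rw [h, map_sum, Finset.sum_eq_single j (fun i _ hij => by
          rw [map_smul, LinearMap.BilinForm.apply_dualBasis_left, if_neg hij, smul_zero]) (by simp)]
        rw [map_smul, LinearMap.BilinForm.apply_dualBasis_left, if_pos rfl, smul_eq_mul, mul_one]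
      simp only [ι, Algebra.TensorProduct.map_tmul, T, LinearMap.comp_apply, LinearMap.rTensor_tmul,
        LinearEquiv.coe_toLinearMap, TensorProduct.lid_tmul, LinearMap.mulLeft_apply, hx, ← TensorProduct.smul_tmul]
      rw [← TensorProduct.sum_tmul]
      congr 1
      have h := congrArg E.val (β.sum_repr x)
      simp only [map_sum, map_smul] at h
      exact h.symm
  rw [hT]
  refine Submodule.sum_mem _ fun j _ => ?_
  rw [show (β j : k) ⊗ₜ[K] T j e₁ = (β j : k) • ((1 : k) ⊗ₜ[K] T j e₁) by
    rw [TensorProduct.smul_tmul', smul_eq_mul, mul_one]]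
  refine Submodule.smul_mem _ _ (Submodule.subset_span ⟨_, ?_, rfl⟩)
  refine isSepElem_of_injective (Algebra.TensorProduct.includeRight : A →ₐ[K] k ⊗[K] A)
    (Algebra.TensorProduct.includeRight_injective (algebraMap K k).injective) ?_
  have h2 : ∀ z, (1 : k) ⊗ₜ[K] T j z =
      ∑ σ : E →ₐ[K] k, algebraMap k (k ⊗[K] A) (σ (β' j)) * Algebra.TensorProduct.map σ (AlgHom.id K A) z := fun z => by
    induction z using TensorProduct.induction_on with
    | zero => simp
    | add x y hx hy => simp only [map_add, TensorProduct.tmul_add, mul_add, Finset.sum_add_distrib, hx, hy]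
    | tmul x a =>
      simp only [T, LinearMap.comp_apply, LinearMap.rTensor_tmul, LinearEquiv.coe_toLinearMap,
        TensorProduct.lid_tmul, LinearMap.mulLeft_apply, Algebra.TensorProduct.map_tmul, AlgHom.id_apply,
        Algebra.TensorProduct.algebraMap_apply, Algebra.algebraMap_self, RingHom.id_apply,
        Algebra.TensorProduct.tmul_mul_tmul, one_mul, ← map_mul, ← TensorProduct.sum_tmul,
        ← TensorProduct.smul_tmul]
      rw [← trace_eq_sum_embeddings k, Algebra.smul_def, mul_one]
  show IsSepElem K ((1 : k) ⊗ₜ[K] T j e₁)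
  rw [h2]
  refine (sepElems K (k ⊗[K] A)).sum_mem fun σ _ => (sepElems K _).mul_mem ?_ ?_
  · show IsSepElem K (algebraMap k (k ⊗[K] A) (σ (β' j)))
    refine IsSepElem.map (IsSepElem.map ?_ σ) (Algebra.TensorProduct.includeLeft : k →ₐ[K] k ⊗[K] A)
    exact ⟨minpoly K (β' j), Algebra.IsSeparable.isSeparable K _, minpoly.aeval K _⟩
  · exact isSepElem_idem (by rw [← map_mul, he₁])

theorem mem_span_idem {Ω : Type u} [Field Ω] [IsAlgClosed Ω] {B : Type u} [CommRing B] [Algebra Ω B] {b : B}
    (hb : IsSepElem Ω b) : b ∈ Submodule.span Ω {e : B | e * e = e} := by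
  classical
  obtain ⟨f, hf, hfb⟩ := hb
  have hdiv : ∀ g : Polynomial Ω, (∀ r ∈ f.roots.toFinset, g.eval r = 0) → aeval b g = 0 := fun g hg => by
    have hfprod : f = C f.leadingCoeff * ∏ r ∈ f.roots.toFinset, (X - C r) := by
      conv_lhs => rw [(IsAlgClosed.splits f).eq_prod_roots]
      congr 1
      rw [Finset.prod, Multiset.toFinset_val, (nodup_roots hf).dedup]
    obtain ⟨h, hh⟩ : (∏ r ∈ f.roots.toFinset, (X - C r)) ∣ g :=
      Finset.prod_dvd_of_coprime ((pairwise_coprime_X_sub_C (s := id) Function.injective_id).set_pairwise _)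
        fun r hr => dvd_iff_isRoot.2 (hg r hr)
    have h0 : aeval b (∏ r ∈ f.roots.toFinset, (X - C r)) = 0 := by
      rw [hfprod, map_mul, aeval_C] at hfb
      exact ((IsUnit.mk0 _ (leadingCoeff_ne_zero.2 hf.ne_zero)).map (algebraMap Ω B)).mul_right_eq_zero.1 hfb
    rw [hh, map_mul, h0, zero_mul]
  let ℓ := fun r => aeval b (Lagrange.basis f.roots.toFinset id r)
  have hb' : b = ∑ r ∈ f.roots.toFinset, r • ℓ r := by
    have h := hdiv (X - ∑ r ∈ f.roots.toFinset, C r * Lagrange.basis f.roots.toFinset id r) fun s hs => by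
      rw [eval_sub, eval_X, eval_finset_sum, Finset.sum_eq_single s (fun r hr hrs => by
        rw [eval_mul, show eval s (Lagrange.basis f.roots.toFinset id r) = 0 from
          Lagrange.eval_basis_of_ne (v := id) hrs hs, mul_zero]) (by simp [hs]),
        eval_mul, eval_C, show eval s (Lagrange.basis f.roots.toFinset id s) = 1 from
          Lagrange.eval_basis_self Function.injective_id.injOn hs, mul_one, sub_self]
    rw [map_sub, aeval_X, map_sum, sub_eq_zero] at h
    rw [h]
    simp [ℓ, Algebra.smul_def]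
  rw [hb']
  refine Submodule.sum_mem _ fun r hr => Submodule.smul_mem _ _ (Submodule.subset_span ?_)
  show ℓ r * ℓ r = ℓ r
  rw [← sub_eq_zero, ← map_mul, ← map_sub]
  refine hdiv _ fun s hs => ?_
  rcases eq_or_ne r s with rfl | hrs
  · rw [eval_sub, eval_mul, show eval r (Lagrange.basis f.roots.toFinset id r) = 1 from
      Lagrange.eval_basis_self Function.injective_id.injOn hs, mul_one, sub_self]
  · rw [eval_sub, eval_mul, show eval s (Lagrange.basis f.roots.toFinset id r) = 0 from
      Lagrange.eval_basis_of_ne (v := id) hrs hs, mul_zero, sub_zero]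

theorem idem_mem_span' {K k Ω : Type u} [Field K] [Field k] [Field Ω] [Algebra K k] [Algebra K Ω] [Algebra k Ω]
    [IsScalarTower K k Ω] [IsAlgClosed k] [Algebra.IsAlgebraic K k] {A : Type u} [CommRing A] [Algebra K A]
    {z : Ω ⊗[K] A} (hz : z * z = z) :
    z ∈ Submodule.span Ω ((fun a : A => (1 : Ω) ⊗ₜ[K] a) '' {a | IsSepElem K a}) := by
  let cb := Algebra.TensorProduct.cancelBaseChange K k Ω Ω A
  obtain ⟨z₁, rfl⟩ := cb.surjective z
  obtain ⟨c, rfl⟩ := idem_eq_one_tmul (k := k) (cb.injective ((map_mul cb z₁ z₁).trans hz))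
  have hc : c * c = c := by
    have hinj := Algebra.TensorProduct.includeRight_injective (R := k) (A := Ω) (B := k ⊗[K] A)
      (algebraMap k Ω).injective
    refine hinj (cb.injective ?_)
    rw [map_mul, map_mul]
    exact hz
  have hspan := idem_mem_span hc
  clear hz hc
  induction hspan using Submodule.span_induction with
  | mem x hx =>
    obtain ⟨a, ha, rfl⟩ := hx
    rw [Algebra.TensorProduct.cancelBaseChange_tmul, one_smul]
    exact Submodule.subset_span ⟨a, ha, rfl⟩
  | zero => rw [TensorProduct.tmul_zero, map_zero]; exact zero_mem _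
  | add x y _ _ hx hy => rw [TensorProduct.tmul_add, map_add]; exact add_mem hx hy
  | smul r x _ hx =>
    rw [show (1 : Ω) ⊗ₜ[k] (r • x) = algebraMap k Ω r • ((1 : Ω) ⊗ₜ[k] x) by
      rw [TensorProduct.tmul_smul, algebraMap_smul], map_smul]
    exact Submodule.smul_mem _ _ hx

theorem maxWeaklyEtale_baseChange (K L : Type u) [Field K] [Field L] [Algebra K L] (A : Type u) [CommRing A]
    [Algebra K A] :
    EtAlgD.maxWeaklyEtale L (L ⊗[K] A) =
      Algebra.adjoin L ((Algebra.TensorProduct.includeRight : A →ₐ[K] L ⊗[K] A) ''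
        (EtAlgD.maxWeaklyEtale K A : Set A)) := by
  classical
  refine le_antisymm (fun b hb => ?_) (Algebra.adjoin_le ?_)
  · let Ω := AlgebraicClosure L
    let k := algebraicClosure K Ω
    haveI : IsAlgClosed k := (algebraicClosure.isAlgClosure K Ω).isAlgClosed
    haveI : Algebra.IsAlgebraic K k := algebraicClosure.isAlgebraic K Ω
    let W := Subalgebra.toSubmodule (EtAlgD.maxWeaklyEtale K A)
    let P : Submodule Ω (Ω ⊗[K] A) := LinearMap.ker (W.mkQ.baseChange Ω)
    have hP : ∀ z : Ω ⊗[K] A, z * z = z → z ∈ P := fun z hz => by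
      refine (Submodule.span_le.2 ?_ : Submodule.span Ω _ ≤ P) (idem_mem_span' (k := k) hz)
      rintro _ ⟨a, ha, rfl⟩
      rw [SetLike.mem_coe, LinearMap.mem_ker, LinearMap.baseChange_tmul,
        show W.mkQ a = 0 from (Submodule.Quotient.mk_eq_zero _).2 ((mem_maxWeaklyEtale_iff a).2 ha),
        TensorProduct.tmul_zero]
    let ι : L ⊗[K] A →ₐ[L] Ω ⊗[K] A := Algebra.TensorProduct.map (Algebra.ofId L Ω) (AlgHom.id K A)
    have hιb : ι b ∈ P := by
      refine (Submodule.span_le.2 fun e he => hP e he : Submodule.span Ω _ ≤ P) (mem_span_idem ?_)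
      obtain ⟨f, hf, hfb⟩ := ((mem_maxWeaklyEtale_iff b).1 hb).map ι
      exact ⟨f.map (algebraMap L Ω), hf.map, by rw [aeval_map_algebraMap]; exact hfb⟩
    have h0 : LinearMap.lTensor L W.mkQ b = 0 := by
      refine Module.Flat.rTensor_preserves_injective_linearMap (M := A ⧸ W)
        (IsScalarTower.toAlgHom K L Ω).toLinearMap (algebraMap L Ω).injective ?_
      rw [map_zero]
      have hcomm : ∀ x : L ⊗[K] A, LinearMap.rTensor (A ⧸ W) (IsScalarTower.toAlgHom K L Ω).toLinearMap
          (LinearMap.lTensor L W.mkQ x) = W.mkQ.baseChange Ω (ι x) := fun x => by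
        induction x using TensorProduct.induction_on with
        | zero => simp
        | add x y hx hy => simp only [map_add, hx, hy]
        | tmul x a => rfl
      rw [hcomm]
      exact hιb
    obtain ⟨w, rfl⟩ := ((lTensor_exact L (LinearMap.exact_subtype_mkQ W) W.mkQ_surjective) b).1 h0
    clear hιb h0 hb
    induction w using TensorProduct.induction_on with
    | zero => rw [map_zero]; exact zero_mem _
    | add x y hx hy => rw [map_add]; exact add_mem hx hy
    | tmul l w =>
      rw [LinearMap.lTensor_tmul, show l ⊗ₜ[K] W.subtype w = l • ((1 : L) ⊗ₜ[K] (w : A)) by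
        rw [TensorProduct.smul_tmul', smul_eq_mul, mul_one]; rfl]
      refine Subalgebra.smul_mem _ ?_ l
      exact Algebra.subset_adjoin ⟨(w : A), w.2, rfl⟩
  · rintro _ ⟨a, ha, rfl⟩
    obtain ⟨f, hf, hfa⟩ := ((mem_maxWeaklyEtale_iff a).1 ha).map
      (Algebra.TensorProduct.includeRight : A →ₐ[K] L ⊗[K] A)
    exact (mem_maxWeaklyEtale_iff _).2 ⟨f.map (algebraMap K L), hf.map, by rw [aeval_map_algebraMap]; exact hfa⟩

end Groth.Agent.WEtField
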